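import Groth.Agent.FamilyDesc.Reading
import Groth.Agent.FpqcQCoh.FamilyHom

/-!
# Effectivity of gluing systems of quasi-coherent modules
-/

set_option autoImplicit false
set_option backward.isDefEq.respectTransparency false
set_option backward.defeqAttrib.useBackward true
set_option linter.style.haveILetI false

universe u

open CategoryTheory CategoryTheory.Limits AlgebraicGeometry TopologicalSpace Opposite
open Groth.Agent.PullbackMod Groth.Agent.CohBase Groth.Agent.FpqcQCoh Groth.Agent.QCohLib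
open scoped TensorProduct

noncomputable section

namespace Groth.Agent.FamilyDesc

variable {S : Scheme.{u}} {ι : Type u} {X : ι → Scheme.{u}} {f : ∀ i, X i ⟶ S}

section sys

variable (D : Sys f)

/-- The comparison of the inverse image of the glued module with a member. -/
def ψ (i : ι) : (Scheme.Modules.pullback (f i)).obj (glued D) ⟶ D.obj i :=
  ((Scheme.Modules.pullbackPushforwardAdjunction (f i)).homEquiv _ _).symm (π D i)

theorem ψ_pullMap (i : ι) {W : S.Opens} {U : (X i).Opens} (hU : U ≤ f i ⁻¹ᵁ W) (m : Γ(glued D, W)) :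
    (ψ D i).app U (pullMap (f i) (glued D) hU m) = at' m i hU := by
  have h : (Scheme.Modules.pullbackPushforwardAdjunction (f i)).unit.app (glued D) ≫
      (Scheme.Modules.pushforward (f i)).map (ψ D i) = π D i :=
    (Adjunction.homEquiv_unit _ _ _ _).symm.trans (Equiv.apply_symm_apply _ _)
  refine (QCohLib.app_res (ψ D i) hU _).trans (congrArg _ ?_)
  exact ConcreteCategory.congr_hom (congrArg (fun φ : glued D ⟶ _ => φ.app W) h) m

theorem bijective_ψ [∀ i, Flat (f i)] [Coh.IsQCoh (glued D)] {W : S.Opens} (c : Lift f W) (i : ι)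
    {U : (X i).Opens} (hU : IsAffineOpen U) (hle : U ≤ f i ⁻¹ᵁ W) : Function.Bijective ((ψ D i).app U) := by
  obtain ⟨Ψ, hΨ, hb⟩ := exists_reading D c hU hle
  let A := Γ(S, W)
  let R := Γ(X i, U)
  let FM := Γ((Scheme.Modules.pullback (f i)).obj (glued D), U)
  letI : Algebra A R := ((f i).appLE W U hle).hom.toAlgebra
  letI : Module A FM := Module.compHom _ ((f i).appLE W U hle).hom
  haveI : IsScalarTower A R FM := .of_algebraMap_smul fun _ _ => rfl
  have hbc : IsBaseChange R (pullMapL (f i) (glued D) hle) :=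
    isBaseChange_pullMapL (f i) (glued D) c.affine hU hle
  have h : ∀ w : R ⊗[A] Γ(glued D, W), (ψ D i).app U (hbc.equiv w) = Ψ w := fun w => by
    induction w using TensorProduct.induction_on with
    | zero => simp
    | add y z hy hz => simp only [map_add, hy, hz]
    | tmul x m =>
      rw [hbc.equiv_tmul, hΨ]
      exact (Scheme.Modules.Hom.app_smul (ψ D i) x _).trans (congrArg _ (ψ_pullMap D i hle m))
  refine (Function.Bijective.of_comp_iff _ hbc.equiv.bijective).1 ?_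
  rw [show ⇑((ψ D i).app U).hom ∘ ⇑hbc.equiv = ⇑Ψ from funext h]
  exact hb

theorem isIso_ψ (hf : Presieve.ofArrows X f ∈ Scheme.fpqcPrecoverage S) (i : ι) : IsIso (ψ D i) := by
  haveI : ∀ i, Flat (f i) := flat_of_fpqc f hf
  haveI : Coh.IsQCoh (glued D) := isQCoh_glued D hf
  haveI : Coh.IsQCoh ((Scheme.Modules.pullback (f i)).obj (glued D)) := isQCoh_pullback (f i) (glued D)
  refine OmegaUnivLib.isIso_of_bijective_cover (ψ D i) fun x => ?_
  obtain ⟨_, ⟨W, hW, rfl⟩, hxW, -⟩ :=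
    S.isBasis_affineOpens.exists_subset_of_mem_open (Set.mem_univ (f i x)) isOpen_univ
  obtain ⟨_, ⟨U, hU, rfl⟩, hxU, hUW⟩ :=
    (X i).isBasis_affineOpens.exists_subset_of_mem_open (a := x) (u := ↑(f i ⁻¹ᵁ W)) hxW (f i ⁻¹ᵁ W).2
  exact ⟨U, hU, hxU, bijective_ψ D (exists_lift f hf hW).choose i hU hUW⟩

theorem cmp_inv_pullMap {M : S.Modules} {T Z : Scheme.{u}} {g : Z ⟶ S} (t : T ⟶ Z) {h : T ⟶ S} (e : t ≫ g = h)
    {W : S.Opens} {U : Z.Opens} {V : T.Opens} (hU : U ≤ g ⁻¹ᵁ W) (hV : V ≤ t ⁻¹ᵁ U) (hVW : V ≤ h ⁻¹ᵁ W)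
    (m : Γ(M, W)) :
    (cmpIso M t e).inv.app V (pullMap h M hVW m) =
      pullMap t ((Scheme.Modules.pullback g).obj M) hV (pullMap g M hU m) := by
  rw [← plMap_pullMap M t e hU hV hVW m, plMap_eq M t e hV]
  exact ConcreteCategory.congr_hom
    (congrArg (fun φ : (Scheme.Modules.pullback t).obj ((Scheme.Modules.pullback g).obj M) ⟶ _ => φ.app V)
      (cmpIso M t e).hom_inv_id) _

theorem ψ_comm {T : Scheme.{u}} (h : T ⟶ S) {i j : ι} (a : T ⟶ X i) (b : T ⟶ X j) (ea : a ≫ f i = h)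
    (eb : b ≫ f j = h) :
    (Scheme.Modules.pullback a).map (ψ D i) ≫ D.θ h a b ea eb =
      ((cmpIso (glued D) a ea).hom ≫ (cmpIso (glued D) b eb).inv) ≫ (Scheme.Modules.pullback b).map (ψ D j) := by
  rw [Category.assoc, ← Iso.inv_comp_eq]
  refine ((Scheme.Modules.pullbackPushforwardAdjunction h).homEquiv _ _).injective ?_
  rw [Adjunction.homEquiv_unit, Adjunction.homEquiv_unit]
  ext W m
  show ((cmpIso (glued D) a ea).inv ≫ (Scheme.Modules.pullback a).map (ψ D i) ≫ D.θ h a b ea eb).app (h ⁻¹ᵁ W)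
      (((Scheme.Modules.pullbackPushforwardAdjunction h).unit.app (glued D)).app W m) =
    ((cmpIso (glued D) b eb).inv ≫ (Scheme.Modules.pullback b).map (ψ D j)).app (h ⁻¹ᵁ W)
      (((Scheme.Modules.pullbackPushforwardAdjunction h).unit.app (glued D)).app W m)
  rw [show ((Scheme.Modules.pullbackPushforwardAdjunction h).unit.app (glued D)).app W m =
    pullMap h (glued D) (le_refl (h ⁻¹ᵁ W)) m from (restr_self _ le_rfl _).symm]
  have ha : h ⁻¹ᵁ W ≤ a ⁻¹ᵁ f i ⁻¹ᵁ W := by subst ea; exact le_rfl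
  have hb : h ⁻¹ᵁ W ≤ b ⁻¹ᵁ f j ⁻¹ᵁ W := by subst eb; exact le_rfl
  show (D.θ h a b ea eb).app _ (((Scheme.Modules.pullback a).map (ψ D i)).app _
      ((cmpIso (glued D) a ea).inv.app _ (pullMap h (glued D) le_rfl m))) =
    ((Scheme.Modules.pullback b).map (ψ D j)).app _
      ((cmpIso (glued D) b eb).inv.app _ (pullMap h (glued D) le_rfl m))
  rw [cmp_inv_pullMap a ea le_rfl ha le_rfl m, cmp_inv_pullMap b eb le_rfl hb le_rfl m, pullMap_natural,
    pullMap_natural, ψ_pullMap, ψ_pullMap]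
  exact (rel_iff h a b ea eb ha hb).1 (glued_at' m le_rfl le_rfl T a b (eb.trans ea.symm) _ ha hb)

end sys

variable (D : Desc.modPF.{u}.DescentData f)

/-- The module of a descent datum on a member. -/
def ddObj (i : ι) : (X i).Modules := D.obj i

/-- The morphisms of a descent datum. -/
def ddθ {T : Scheme.{u}} (h : T ⟶ S) {i j : ι} (a : T ⟶ X i) (b : T ⟶ X j) (ea : a ≫ f i = h)
    (eb : b ≫ f j = h) : (Scheme.Modules.pullback a).obj (ddObj D i) ⟶ (Scheme.Modules.pullback b).obj (ddObj D j) :=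
  D.hom h a b ea eb

set_option backward.isDefEq.respectTransparency.types false in
set_option maxHeartbeats 1600000 in
theorem ddθ_natural {T T' : Scheme.{u}} (g : T' ⟶ T) (h : T ⟶ S) (h' : T' ⟶ S) (eh : g ≫ h = h') {i j : ι}
    (a : T ⟶ X i) (b : T ⟶ X j) (ea : a ≫ f i = h) (eb : b ≫ f j = h) (a' : T' ⟶ X i) (b' : T' ⟶ X j)
    (ha : g ≫ a = a') (hb : g ≫ b = b') (ea' : a' ≫ f i = h') (eb' : b' ≫ f j = h') :
    ddθ D h a b ea eb ≫ vMap (ddObj D j) g hb =
      vMap (ddObj D i) g ha ≫ (Scheme.Modules.pushforward g).map (ddθ D h' a' b' ea' eb') := by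
  have pa : a.op.toLoc ≫ g.op.toLoc = a'.op.toLoc := by rw [← ha]; rfl
  have pb : b.op.toLoc ≫ g.op.toLoc = b'.op.toLoc := by rw [← hb]; rfl
  have hc : (Desc.modPF.{u}.mapComp' a.op.toLoc g.op.toLoc a'.op.toLoc pa).hom.toNatTrans.app (ddObj D i) ≫
      (Scheme.Modules.pullback g).map (ddθ D h a b ea eb) ≫
        (Desc.modPF.{u}.mapComp' b.op.toLoc g.op.toLoc b'.op.toLoc pb).inv.toNatTrans.app (ddObj D j) =
      ddθ D h' a' b' ea' eb' := D.pullHom_hom g h h' eh a b ea eb a' b' ha hb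
  have h1 := cmp_mapComp' g hb (ddObj D j) pb
  have h2 := cmp_mapComp'_hom g ha (ddObj D i) pa
  replace hc : (cmpIso (ddObj D i) g ha).inv ≫ (Scheme.Modules.pullback g).map (ddθ D h a b ea eb) ≫
      (cmpIso (ddObj D j) g hb).hom = ddθ D h' a' b' ea' eb' := by
    simpa only [h1, h2] using hc
  rw [vMap, vMap, ← Adjunction.homEquiv_naturality_left, ← Adjunction.homEquiv_naturality_right]
  refine congrArg _ ?_
  rw [← hc, Iso.hom_inv_id_assoc]

/-- The gluing system of a descent datum with quasi-coherent modules. -/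
def ofDD (hD : ∀ i, Coh.IsQCoh (ddObj D i)) : Sys f where
  obj := ddObj D
  qcoh := hD
  θ _ h _ _ a b ea eb := ddθ D h a b ea eb
  natural _ _ g h h' eh _ _ a b ea eb a' b' ha hb ea' eb' := ddθ_natural D g h h' eh a b ea eb a' b' ha hb ea' eb'
  θ_self _ h _ a e := D.hom_self h a e
  θ_comp _ h _ _ _ a b c ea eb ec := D.hom_comp h a b c ea eb ec

set_option backward.isDefEq.respectTransparency.types false in
set_option maxHeartbeats 1600000 in
theorem effective (hf : Presieve.ofArrows X f ∈ Scheme.fpqcPrecoverage S) (hD : ∀ i, Coh.IsQCoh (ddObj D i)) :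
    ∃ M : S.Modules, Coh.IsQCoh M ∧ Nonempty ((Desc.modPF.{u}.toDescentData f).obj M ≅ D) := by
  haveI : ∀ i, Flat (f i) := flat_of_fpqc f hf
  let Y := ofDD D hD
  refine ⟨glued Y, isQCoh_glued Y hf, ⟨Pseudofunctor.DescentData.isoMk
    (fun i => @asIso _ _ _ _ (ψ Y i) (isIso_ψ Y hf i)) ?_⟩⟩
  intro T h i j a b ea eb
  have pa : (f i).op.toLoc ≫ a.op.toLoc = h.op.toLoc := by rw [← ea]; rfl
  have pb : (f j).op.toLoc ≫ b.op.toLoc = h.op.toLoc := by rw [← eb]; rfl
  show (Scheme.Modules.pullback a).map (ψ Y i) ≫ Y.θ h a b ea eb =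
    ((Desc.modPF.{u}.mapComp' (f i).op.toLoc a.op.toLoc h.op.toLoc pa).inv.toNatTrans.app (glued Y) ≫
      (Desc.modPF.{u}.mapComp' (f j).op.toLoc b.op.toLoc h.op.toLoc pb).hom.toNatTrans.app (glued Y)) ≫
      (Scheme.Modules.pullback b).map (ψ Y j)
  have h1 := cmp_mapComp' a ea (glued Y) pa
  have h2 := cmp_mapComp'_hom b eb (glued Y) pb
  refine (ψ_comm Y h a b ea eb).trans ?_
  simp only [h1, h2]

end Groth.Agent.FamilyDesc
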