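import Groth.Agent.FamilyDesc.Sys

/-!
# The quasi-coherent module of a gluing system for an fpqc family
-/

set_option autoImplicit false
set_option backward.isDefEq.respectTransparency false
set_option backward.defeqAttrib.useBackward true
set_option linter.style.haveILetI false

universe u

open CategoryTheory CategoryTheory.Limits AlgebraicGeometry TopologicalSpace Opposite
open Groth.Agent.PullbackMod Groth.Agent.CohBase Groth.Agent.FpqcQCoh Groth.Agent.QCohLib

noncomputable section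

namespace Groth.Agent.FamilyDesc

/-- Restriction is semilinear. -/
theorem res_smul' {Y : Scheme.{u}} (F : Y.Modules) {U V : Y.Opens} (h : V ≤ U) (a : Γ(Y, U)) (m : Γ(F, U)) :
    F.presheaf.map (homOfLE h).op (a • m) =
      Y.presheaf.map (homOfLE h).op a • F.presheaf.map (homOfLE h).op m :=
  F.val.map_smul (homOfLE h).op a m

variable {S : Scheme.{u}} {ι : Type u} {X : ι → Scheme.{u}} {f : ∀ i, X i ⟶ S} {D : Sys f}

section glued

variable {i j : ι} {U : (X i).Opens} {U' : (X j).Opens}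

theorem glued_zero : Glued D (0 : Γ(D.obj i, U)) (0 : Γ(D.obj j, U')) := fun T a b e V ha hb => by
  unfold Rel
  simp only [map_zero]

theorem Glued.add {y y' : Γ(D.obj i, U)} {z z' : Γ(D.obj j, U')} (h : Glued D y z) (h' : Glued D y' z') :
    Glued D (y + y') (z + z') := fun T a b e V ha hb => by
  have h1 := h T a b e V ha hb
  have h2 := h' T a b e V ha hb
  unfold Rel at h1 h2 ⊢
  simp only [map_add, h1, h2]

theorem Glued.smul {y : Γ(D.obj i, U)} {z : Γ(D.obj j, U')} (h : Glued D y z) {W : S.Opens}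
    (hU : U ≤ f i ⁻¹ᵁ W) (hU' : U' ≤ f j ⁻¹ᵁ W) (r : Γ(S, W)) :
    Glued D ((f i).appLE W U hU r • y) ((f j).appLE W U' hU' r • z) := fun T a b e V ha hb => by
  have h1 := h T a b e V ha hb
  unfold Rel at h1 ⊢
  rw [pullMap_smul, pullMap_smul, Scheme.Modules.Hom.app_smul, h1]
  congr 1
  show ((f i).appLE W U hU ≫ a.appLE U V ha) r = ((f j).appLE W U' hU' ≫ b.appLE U' V hb) r
  rw [Scheme.Hom.appLE_comp_appLE, Scheme.Hom.appLE_comp_appLE]
  simp only [e]

theorem Glued.of_cover {σ : Type*} (Us : σ → (X i).Opens) (hle : ∀ s, Us s ≤ U) (hcov : U ≤ ⨆ s, Us s)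
    {y : Γ(D.obj i, U)} {z : Γ(D.obj j, U')}
    (h : ∀ s, Glued D ((D.obj i).presheaf.map (homOfLE (hle s)).op y) z) : Glued D y z := by
  intro T a b e V ha hb
  refine Rel.of_cover (fun s => V ⊓ a ⁻¹ᵁ Us s) (fun s => inf_le_left) (fun x hx => ?_) fun s => ?_
  · obtain ⟨s, hs⟩ := Opens.mem_iSup.1 (hcov (ha hx))
    exact Opens.mem_iSup.2 ⟨s, hx, hs⟩
  · have h1 := h s T a b e (V ⊓ a ⁻¹ᵁ Us s) inf_le_right (inf_le_left.trans hb)
    rw [← restr_self (D.obj j) le_rfl z] at h1
    exact (rel_res (hle s) le_rfl _ _ e y z).1 h1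

theorem Glued.res_left {y : Γ(D.obj i, U)} {z : Γ(D.obj j, U')} (h : Glued D y z) {U₁ : (X i).Opens}
    (hU : U₁ ≤ U) : Glued D ((D.obj i).presheaf.map (homOfLE hU).op y) z := by
  have h1 := h.res hU (le_refl U')
  rwa [restr_self] at h1

theorem Glued.res_right {y : Γ(D.obj i, U)} {z : Γ(D.obj j, U')} (h : Glued D y z) {U₁ : (X j).Opens}
    (hU : U₁ ≤ U') : Glued D y ((D.obj j).presheaf.map (homOfLE hU).op z) :=
  (h.symm.res_left hU).symm

end glued

variable (D)

/-- The direct images of the members. -/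
def P (i : ι) : S.Modules := (Scheme.Modules.pushforward (f i)).obj (D.obj i)

/-- Families of sections glued along every common scheme. -/
def sec (W : S.Opens) : Submodule Γ(S, W) (∀ i, Γ(P D i, W)) where
  carrier := {m | ∀ i j, Glued D (U := f i ⁻¹ᵁ W) (U' := f j ⁻¹ᵁ W) (m i) (m j)}
  zero_mem' _ _ := glued_zero
  add_mem' hm hm' i j := (hm i j).add (hm' i j)
  smul_mem' r m hm i j := by
    have h := (hm i j).smul le_rfl le_rfl r
    rw [← Scheme.Hom.app_eq_appLE, ← Scheme.Hom.app_eq_appLE] at h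
    exact h

theorem res_mem {W W' : S.Opens} (h : W' ≤ W) {m : ∀ i, Γ(P D i, W)} (hm : m ∈ sec D W) :
    (fun i => (P D i).presheaf.map (homOfLE h).op (m i)) ∈ sec D W' :=
  fun i j => (hm i j).res ((f i).preimage_mono h) ((f j).preimage_mono h)

/-- The presheaf of glued families. -/
def ab : TopCat.Presheaf Ab.{u} S where
  obj W := AddCommGrpCat.of (sec D W.unop)
  map {W W'} i := AddCommGrpCat.ofHom
    { toFun := fun m => ⟨fun a => (P D a).presheaf.map i (m.1 a), res_mem D i.unop.le m.2⟩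
      map_zero' := Subtype.ext (funext fun a => map_zero ((P D a).presheaf.map i).hom)
      map_add' := fun m n =>
        Subtype.ext (funext fun a => map_add ((P D a).presheaf.map i).hom (m.1 a) (n.1 a)) }
  map_id W := AddCommGrpCat.hom_ext (AddMonoidHom.ext fun m => Subtype.ext (funext fun a =>
    ConcreteCategory.congr_hom ((P D a).presheaf.map_id W) (Subtype.val (p := fun m => m ∈ sec D W.unop) m a)))
  map_comp {U V W} i j := AddCommGrpCat.hom_ext (AddMonoidHom.ext fun m => Subtype.ext (funext fun a =>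
    ConcreteCategory.congr_hom ((P D a).presheaf.map_comp i j)
      (Subtype.val (p := fun m => m ∈ sec D U.unop) m a)))

instance (W : S.Opensᵒᵖ) : Module (S.ringCatSheaf.obj.obj W) ((ab D).obj W) :=
  inferInstanceAs (Module Γ(S, W.unop) (sec D W.unop))

theorem ab_isSheaf : (ab D).IsSheaf := by
  rw [TopCat.Presheaf.isSheaf_iff_isSheafUniqueGluing]
  intro σ U sf hsf
  have hex : ∀ a, ∃! g : Γ(P D a, iSup U), ∀ s, (P D a).presheaf.map (Opens.leSupr U s).op g = (sf s).1 a :=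
    fun a => (TopCat.Presheaf.isSheaf_iff_isSheafUniqueGluing (P D a).presheaf).1 (P D a).isSheaf U
      (fun s => (sf s).1 a) fun s t => congrArg (fun m => m.1 a) (hsf s t)
  choose g hg huniq using hex
  refine ⟨⟨g, fun i j => ?_⟩, fun s => Subtype.ext (funext fun a => hg a s), fun t ht =>
    Subtype.ext (funext fun a => huniq a (t.1 a) fun s => congrArg (fun m => m.1 a) (ht s))⟩
  intro T a b e V ha hb
  refine Rel.of_cover (fun s => V ⊓ a ⁻¹ᵁ f i ⁻¹ᵁ U s) (fun s => inf_le_left) (fun x hx => ?_) fun s => ?_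
  · obtain ⟨s, hs⟩ := Opens.mem_iSup.1 (ha hx)
    exact Opens.mem_iSup.2 ⟨s, hx, hs⟩
  · have hb' : V ⊓ a ⁻¹ᵁ f i ⁻¹ᵁ U s ≤ b ⁻¹ᵁ f j ⁻¹ᵁ U s := fun x hx => by
      show f j (b x) ∈ U s
      rw [← Scheme.Hom.comp_apply, e, Scheme.Hom.comp_apply]
      exact hx.2
    refine (rel_res ((f i).preimage_mono (le_iSup U s)) ((f j).preimage_mono (le_iSup U s))
      inf_le_right hb' e (g i) (g j)).1 ?_
    have h1 := (sf s).2 i j T a b e (V ⊓ a ⁻¹ᵁ f i ⁻¹ᵁ U s) inf_le_right hb'
    rw [← hg i s, ← hg j s] at h1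
    exact h1

/-- The glued module. -/
def glued : S.Modules where
  val := PresheafOfModules.ofPresheaf (ab D) fun _ _ i r m =>
    Subtype.ext (funext fun a => (P D a).val.map_smul i r (m.1 a))
  isSheaf := ab_isSheaf D

/-- The projection to a member. -/
def π (i : ι) : glued D ⟶ P D i :=
  ⟨PresheafOfModules.homMk
    { app := fun W => AddCommGrpCat.ofHom
        { toFun := fun m : sec D W.unop => m.1 i
          map_zero' := rfl
          map_add' := fun _ _ => rfl }
      naturality := fun _ _ _ => rfl }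
    fun _ _ _ => rfl⟩

variable {D}

/-- The reading of a glued section over an open of a member. -/
def at' {W : S.Opens} (m : Γ(glued D, W)) (i : ι) {U : (X i).Opens} (hU : U ≤ f i ⁻¹ᵁ W) : Γ(D.obj i, U) :=
  (D.obj i).presheaf.map (homOfLE hU).op ((π D i).app W m)

theorem at'_res {W W' : S.Opens} (h : W' ≤ W) (m : Γ(glued D, W)) (i : ι) {U : (X i).Opens}
    (hU : U ≤ f i ⁻¹ᵁ W') :
    at' ((glued D).presheaf.map (homOfLE h).op m) i hU = at' m i (hU.trans ((f i).preimage_mono h)) :=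
  restr_trans (D.obj i) ((f i).preimage_mono h) hU ((π D i).app W m)

theorem res_at' {W : S.Opens} (m : Γ(glued D, W)) (i : ι) {U V : (X i).Opens} (hU : U ≤ f i ⁻¹ᵁ W)
    (hV : V ≤ U) :
    (D.obj i).presheaf.map (homOfLE hV).op (at' m i hU) = at' m i (hV.trans hU) :=
  restr_trans (D.obj i) hU hV _

theorem at'_smul {W : S.Opens} (r : Γ(S, W)) (m : Γ(glued D, W)) (i : ι) {U : (X i).Opens}
    (hU : U ≤ f i ⁻¹ᵁ W) : at' (r • m) i hU = (f i).appLE W U hU r • at' m i hU := by
  refine (congrArg _ (Scheme.Modules.Hom.app_smul (π D i) r m)).trans ?_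
  exact res_smul' (D.obj i) hU ((f i).app W r) _

theorem at'_zero {W : S.Opens} (i : ι) {U : (X i).Opens} (hU : U ≤ f i ⁻¹ᵁ W) :
    at' (0 : Γ(glued D, W)) i hU = 0 := by
  unfold at'
  simp only [map_zero]

theorem glued_at' {W : S.Opens} (m : Γ(glued D, W)) {i j : ι} {U : (X i).Opens} (hU : U ≤ f i ⁻¹ᵁ W)
    {U' : (X j).Opens} (hU' : U' ≤ f j ⁻¹ᵁ W) : Glued D (at' m i hU) (at' m j hU') :=
  ((show sec D W from m).2 i j).res hU hU'

variable [∀ i, Flat (f i)] {W : S.Opens} (c : Lift f W)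

theorem sec_ext {m m' : Γ(glued D, W)} (h : ∀ k, at' m (c.idx k) (c.hle k) = at' m' (c.idx k) (c.hle k)) :
    m = m' := by
  refine Subtype.ext (funext fun j => ?_)
  refine eq_of_cover (D.obj j) (fun U : {U : (X j).Opens // IsAffineOpen U ∧ U ≤ f j ⁻¹ᵁ W} => U.1)
    (fun U => U.2.2) (fun x hx => ?_) _ _ fun U => ?_
  · obtain ⟨_, ⟨U, hU, rfl⟩, hxU, hUV⟩ :=
      (X j).isBasis_affineOpens.exists_subset_of_mem_open hx (f j ⁻¹ᵁ W).2
    exact Opens.mem_iSup.2 ⟨⟨U, hU, hUV⟩, hxU⟩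
  · exact (existsUnique_glued c (fun k => at' m (c.idx k) (c.hle k))
      (fun k l => glued_at' m _ _) U.2.1 U.2.2).unique (fun k => glued_at' m U.2.2 _)
      (fun k => by rw [h k]; exact glued_at' m' U.2.2 _)

theorem exists_sec (y : ∀ k, Γ(D.obj (c.idx k), c.U k)) (hy : ∀ k l, Glued D (y k) (y l)) :
    ∃ m : Γ(glued D, W), ∀ k, at' m (c.idx k) (c.hle k) = y k := by
  have hz : ∀ j, ∃ z : Γ(D.obj j, f j ⁻¹ᵁ W), ∀ k, Glued D z (y k) := fun j => by
    let σ := {U : (X j).Opens // IsAffineOpen U ∧ U ≤ f j ⁻¹ᵁ W}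
    choose zl hzl using fun U : σ => (existsUnique_glued c y hy U.2.1 U.2.2).exists
    have hcov : f j ⁻¹ᵁ W ≤ ⨆ U : σ, U.1 := fun x hx => by
      obtain ⟨_, ⟨U, hU, rfl⟩, hxU, hUV⟩ :=
        (X j).isBasis_affineOpens.exists_subset_of_mem_open hx (f j ⁻¹ᵁ W).2
      exact Opens.mem_iSup.2 ⟨⟨U, hU, hUV⟩, hxU⟩
    obtain ⟨z, hz, -⟩ := TopCat.Sheaf.existsUnique_gluing'
      (⟨(D.obj j).presheaf, (D.obj j).isSheaf⟩ : TopCat.Sheaf Ab.{u} (X j).carrier) (fun U : σ => U.1) (f j ⁻¹ᵁ W)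
      (fun U => homOfLE U.2.2) hcov zl fun U U₂ => by
        refine eq_of_cover (D.obj j) (fun U₃ : {U₃ : (X j).Opens // IsAffineOpen U₃ ∧ U₃ ≤ U.1 ⊓ U₂.1} => U₃.1)
          (fun U₃ => U₃.2.2) (fun x hx => ?_) _ _ fun U₃ => ?_
        · obtain ⟨_, ⟨U₃, hU₃, rfl⟩, hxU, hUV⟩ :=
            (X j).isBasis_affineOpens.exists_subset_of_mem_open hx (U.1 ⊓ U₂.1).2
          exact Opens.mem_iSup.2 ⟨⟨U₃, hU₃, hUV⟩, hxU⟩
        · refine (existsUnique_glued c y hy U₃.2.1 ((U₃.2.2.trans inf_le_left).trans U.2.2)).unique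
            (fun k => ?_) (fun k => ?_)
          · exact ((hzl U k).res_left inf_le_left).res_left U₃.2.2
          · exact ((hzl U₂ k).res_left inf_le_right).res_left U₃.2.2
    refine ⟨z, fun k => Glued.of_cover (fun U : σ => U.1) (fun U => U.2.2) hcov fun U => ?_⟩
    rw [show (D.obj j).presheaf.map (homOfLE U.2.2).op z = zl U from hz U]
    exact hzl U k
  choose z hz using hz
  refine ⟨(⟨z, fun i j => glued_of_common c y le_rfl (z i) (z j) (hz i) (hz j)⟩ : sec D W), fun k => ?_⟩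
  exact (existsUnique_glued c y hy (c.hU k) (c.hle k)).unique
    (fun l => (hz (c.idx k) l).res_left (c.hle k)) (fun l => hy k l)

/-- The family of basic opens over a basic open. -/
def Lift.basicOpen (r : Γ(S, W)) : Lift f (S.basicOpen r) where
  affine := c.affine.basicOpen r
  κ := c.κ
  idx := c.idx
  U k := (X (c.idx k)).basicOpen ((f (c.idx k)).appLE W (c.U k) (c.hle k) r)
  hU k := (c.hU k).basicOpen _
  hle k := by
    rw [Scheme.basicOpen_appLE]
    exact inf_le_right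
  hcov s hs := by
    obtain ⟨k, x, hx, he⟩ := c.hcov s (S.basicOpen_le r hs)
    refine ⟨k, x, ?_, he⟩
    rw [Scheme.basicOpen_appLE]
    exact ⟨hx, show f (c.idx k) x ∈ S.basicOpen r by rw [he]; exact hs⟩

theorem sc_self {Y : Scheme.{u}} {F : Y.Modules} {U : Y.Opens} (a : Γ(Y, U)) (m : Γ(F, U)) :
    sc a le_rfl m = a • m := by
  rw [sc_apply, show (homOfLE (le_refl U)).op = 𝟙 (op U) from rfl, Y.presheaf.map_id]
  rfl

include c in
theorem kill_glued (r : Γ(S, W)) (m : Γ(glued D, W))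
    (hm : (glued D).presheaf.map (homOfLE (S.basicOpen_le r)).op m = 0) :
    ∃ n : ℕ, sc (r ^ n) le_rfl m = 0 := by
  let rk : ∀ k, Γ(X (c.idx k), c.U k) := fun k => (f (c.idx k)).appLE W (c.U k) (c.hle k) r
  have h0 : ∀ k, ∃ n : ℕ, sc (rk k ^ n) le_rfl (at' m (c.idx k) (c.hle k)) = 0 := fun k =>
    exists_pow_zero (D.obj (c.idx k)) (c.hU k) (rk k) rfl _ (by
      rw [res_at']
      have h := at'_res (S.basicOpen_le r) m (c.idx k) ((c.basicOpen r).hle k)
      rw [hm, at'_zero] at h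
      exact h.symm)
  choose n hn using h0
  refine ⟨Finset.univ.sup n, sec_ext c fun k => ?_⟩
  rw [sc_self, at'_smul, at'_zero, map_pow,
    ← Nat.sub_add_cancel (Finset.le_sup (f := n) (Finset.mem_univ k)), pow_add, mul_smul]
  have h := hn k
  rw [sc_self] at h
  rw [show (f (c.idx k)).appLE W (c.U k) (c.hle k) r ^ n k • at' m (c.idx k) (c.hle k) = 0 from h, smul_zero]

include c in
theorem at'_sc (r : Γ(S, W)) (t : Γ(glued D, S.basicOpen r)) (n : ℕ) (k : c.κ) :
    at' (sc (r ^ n) (S.basicOpen_le r) t) (c.idx k)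
        (U := (X (c.idx k)).basicOpen ((f (c.idx k)).appLE W (c.U k) (c.hle k) r)) ((c.basicOpen r).hle k) =
      (X (c.idx k)).presheaf.map (homOfLE ((X (c.idx k)).basicOpen_le
          ((f (c.idx k)).appLE W (c.U k) (c.hle k) r))).op ((f (c.idx k)).appLE W (c.U k) (c.hle k) r ^ n) •
        at' t (c.idx k) (U := (X (c.idx k)).basicOpen ((f (c.idx k)).appLE W (c.U k) (c.hle k) r))
          ((c.basicOpen r).hle k) := by
  rw [sc_apply, at'_smul]
  congr 1
  rw [← map_pow ((f (c.idx k)).appLE W (c.U k) (c.hle k)).hom]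
  show (S.presheaf.map _ ≫ (f (c.idx k)).appLE _ _ _) (r ^ n) = ((f (c.idx k)).appLE W (c.U k) _ ≫
    (X (c.idx k)).presheaf.map _) (r ^ n)
  rw [Scheme.Hom.map_appLE, Scheme.Hom.appLE_map]

include c in
theorem extend_glued (r : Γ(S, W)) (t : Γ(glued D, S.basicOpen r)) :
    ∃ (n : ℕ) (s : Γ(glued D, W)), (glued D).presheaf.map (homOfLE (S.basicOpen_le r)).op s =
      sc (r ^ n) (S.basicOpen_le r) t := by
  let rk : ∀ k, Γ(X (c.idx k), c.U k) := fun k => (f (c.idx k)).appLE W (c.U k) (c.hle k) r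
  have he : ∀ k, ∃ (n : ℕ) (s : Γ(D.obj (c.idx k), c.U k)),
      (D.obj (c.idx k)).presheaf.map (homOfLE ((X (c.idx k)).basicOpen_le (rk k))).op s =
        sc (rk k ^ n) ((X (c.idx k)).basicOpen_le (rk k)) (at' t (c.idx k) ((c.basicOpen r).hle k)) := fun k =>
    exists_pow_extend (D.obj (c.idx k)) (c.hU k) (rk k) rfl _
  choose n s hs using he
  let N := Finset.univ.sup n
  let t' := sc (r ^ N) (S.basicOpen_le r) t
  let s' : ∀ k, Γ(D.obj (c.idx k), c.U k) := fun k => rk k ^ (N - n k) • s k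
  have hs' : ∀ k, (D.obj (c.idx k)).presheaf.map (homOfLE ((X (c.idx k)).basicOpen_le (rk k))).op (s' k) =
      at' t' (c.idx k) ((c.basicOpen r).hle k) := fun k => by
    rw [res_smul', hs k, sc_apply, smul_smul, ← map_mul, ← pow_add,
      Nat.sub_add_cancel (Finset.le_sup (f := n) (Finset.mem_univ k))]
    exact (at'_sc c r t N k).symm
  let g : ∀ k l, pullback (f (c.idx k)) (f (c.idx l)) ⟶ X (c.idx k) := fun k l => pullback.fst _ _
  let q : ∀ k l, pullback (f (c.idx k)) (f (c.idx l)) ⟶ X (c.idx l) := fun k l => pullback.snd _ _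
  let V : ∀ k l, (pullback (f (c.idx k)) (f (c.idx l))).Opens := fun k l =>
    g k l ⁻¹ᵁ c.U k ⊓ q k l ⁻¹ᵁ c.U l
  have he : ∀ k l, q k l ≫ f (c.idx l) = g k l ≫ f (c.idx k) := fun k l => pullback.condition.symm
  have hV : ∀ k l, IsAffineOpen (V k l) := fun k l =>
    (isPushout_appLE (IsPullback.of_hasPullback (f (c.idx k)) (f (c.idx l))) c.affine (c.hU k) (c.hU l)
      (c.hle k) (c.hle l)).1
  let rV : ∀ k l, Γ(pullback (f (c.idx k)) (f (c.idx l)), V k l) := fun k l =>
    (g k l).appLE (c.U k) (V k l) inf_le_left (rk k)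
  have hrV : ∀ k l, (q k l).appLE (c.U l) (V k l) inf_le_right (rk l) = rV k l := fun k l => by
    show ((f (c.idx l)).appLE W (c.U l) (c.hle l) ≫ (q k l).appLE (c.U l) (V k l) inf_le_right) r =
      ((f (c.idx k)).appLE W (c.U k) (c.hle k) ≫ (g k l).appLE (c.U k) (V k l) inf_le_left) r
    rw [Scheme.Hom.appLE_comp_appLE, Scheme.Hom.appLE_comp_appLE]
    simp only [he]
  have hd : ∀ k l, ∃ M : ℕ, rV k l ^ M •
      (D.θ (g k l ≫ f (c.idx k)) (g k l) (q k l) rfl (he k l)).app (V k l)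
        (pullMap (g k l) (D.obj (c.idx k)) inf_le_left (s' k)) =
      rV k l ^ M • pullMap (q k l) (D.obj (c.idx l)) inf_le_right (s' l) := fun k l => by
    haveI : Coh.IsQCoh ((Scheme.Modules.pullback (q k l)).obj (D.obj (c.idx l))) :=
      isQCoh_pullback (q k l) (D.obj (c.idx l))
    obtain ⟨M, hM⟩ := exists_pow_zero ((Scheme.Modules.pullback (q k l)).obj (D.obj (c.idx l))) (hV k l)
      (rV k l) rfl ((D.θ (g k l ≫ f (c.idx k)) (g k l) (q k l) rfl (he k l)).app (V k l)
        (pullMap (g k l) (D.obj (c.idx k)) inf_le_left (s' k)) -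
          pullMap (q k l) (D.obj (c.idx l)) inf_le_right (s' l)) (by
        have hk : (pullback (f (c.idx k)) (f (c.idx l))).basicOpen (rV k l) ≤
            g k l ⁻¹ᵁ (X (c.idx k)).basicOpen (rk k) := by
          rw [Scheme.basicOpen_appLE]; exact inf_le_right
        have hl : (pullback (f (c.idx k)) (f (c.idx l))).basicOpen (rV k l) ≤
            q k l ⁻¹ᵁ (X (c.idx l)).basicOpen (rk l) := by
          rw [← hrV, Scheme.basicOpen_appLE]; exact inf_le_right
        rw [map_sub, ← app_res, pullMap_res _ _ _ ((X (c.idx k)).basicOpen_le (rk k)) _ hk,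
          pullMap_res _ _ _ ((X (c.idx l)).basicOpen_le (rk l)) _ hl, hs', hs', sub_eq_zero]
        exact glued_at' t' ((c.basicOpen r).hle k) ((c.basicOpen r).hle l) _ (g k l) (q k l) (he k l) _ hk hl)
    rw [sc_self, smul_sub, sub_eq_zero] at hM
    exact ⟨M, hM⟩
  choose Mp hMp using hd
  let M := Finset.univ.sup fun p : c.κ × c.κ => Mp p.1 p.2
  let y : ∀ k, Γ(D.obj (c.idx k), c.U k) := fun k => rk k ^ M • s' k
  obtain ⟨m, hm⟩ := exists_sec c y fun k l => glued_of_univ (by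
    show (D.θ (g k l ≫ f (c.idx k)) (g k l) (q k l) rfl (he k l)).app (V k l)
      (pullMap (g k l) (D.obj (c.idx k)) inf_le_left (rk k ^ M • s' k)) =
        pullMap (q k l) (D.obj (c.idx l)) inf_le_right (rk l ^ M • s' l)
    have hle : Mp k l ≤ M :=
      Finset.le_sup (f := fun p : c.κ × c.κ => Mp p.1 p.2) (Finset.mem_univ (k, l))
    rw [pullMap_smul (g k l), pullMap_smul (q k l), Scheme.Modules.Hom.app_smul, map_pow, map_pow, hrV,
      show (g k l).appLE (c.U k) (V k l) inf_le_left (rk k) = rV k l from rfl,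
      ← Nat.sub_add_cancel hle, pow_add, mul_smul, mul_smul, hMp k l])
  refine ⟨M + N, m, sec_ext (c.basicOpen r) fun k => ?_⟩
  show at' _ (c.idx k) ((c.basicOpen r).hle k) = at' _ (c.idx k) ((c.basicOpen r).hle k)
  rw [at'_res, at'_sc c r t (M + N) k, ← res_at' m (c.idx k) (c.hle k) ((X (c.idx k)).basicOpen_le (rk k)),
    hm k, res_smul', hs' k, at'_sc c r t N k, smul_smul, ← map_mul, ← pow_add]

include c in
theorem locAt_glued : LocAt (glued D) W :=
  ⟨extend_glued c, kill_glued c⟩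

omit [∀ i, Flat (f i)] in
variable (f) in
/-- A lift of an affine open exists for an fpqc family. -/
theorem exists_lift (hf : Presieve.ofArrows X f ∈ Scheme.fpqcPrecoverage S) {W : S.Opens} (hW : IsAffineOpen W) :
    ∃ c : Lift f W, True := by
  obtain ⟨κ, hκ, i, U, hU, hle, hcov⟩ := exists_family_lift f hf hW
  exact ⟨{ affine := hW, κ := κ, fintype := hκ, idx := i, U := U, hU := hU, hle := hle, hcov := hcov }, trivial⟩

variable (D) in
theorem isQCoh_glued (hf : Presieve.ofArrows X f ∈ Scheme.fpqcPrecoverage S) : Coh.IsQCoh (glued D) :=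
  (isQCoh_iff _).2 fun _ hW => locAt_glued (exists_lift f hf hW).choose

end Groth.Agent.FamilyDesc
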