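import Groth.Agent.FamilyDesc.Module
import Groth.Agent.FpqcQCoh.Affine

/-!
# The sections of the glued module compute the members
-/

set_option autoImplicit false
set_option backward.isDefEq.respectTransparency false
set_option backward.defeqAttrib.useBackward true
set_option linter.style.haveILetI false

universe u

open CategoryTheory CategoryTheory.Limits AlgebraicGeometry TopologicalSpace Opposite
open Groth.Agent.PullbackMod Groth.Agent.CohBase Groth.Agent.FpqcQCoh Groth.Agent.QCohLib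
open scoped TensorProduct

noncomputable section

namespace Groth.Agent.FamilyDesc

/-- A tensor with a finite product is determined by its components. -/
theorem lTensor_proj_jointly_injective {A R : Type u} [CommRing A] [AddCommGroup R] [Module A R] {κ : Type u}
    [Finite κ] (N : κ → Type u) [∀ k, AddCommGroup (N k)] [∀ k, Module A (N k)] :
    Function.Bijective (fun (w : R ⊗[A] (∀ k, N k)) (k : κ) =>
      (LinearMap.proj k : (∀ k, N k) →ₗ[A] N k).lTensor R w) := by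
  classical
  haveI := Fintype.ofFinite κ
  have h : (fun (w : R ⊗[A] (∀ k, N k)) (k : κ) => (LinearMap.proj k : (∀ k, N k) →ₗ[A] N k).lTensor R w) =
      ⇑(TensorProduct.piRight A A R N) := by
    funext w k
    induction w using TensorProduct.induction_on with
    | zero => simp
    | add y z hy hz => simp only [map_add, Pi.add_apply, hy, hz]
    | tmul x n => simp
  rw [h]
  exact (TensorProduct.piRight A A R N).bijective

/-- Sections over an affine part of a fibre product, for a module pulled back from one factor. -/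
theorem exists_sectionsTensor {S X Y P : Scheme.{u}} {f : X ⟶ S} {h : Y ⟶ S} {g : P ⟶ X} {q : P ⟶ Y}
    (hc : IsPullback q g h f) (N : Y.Modules) [Coh.IsQCoh N] {W : S.Opens} (hW : IsAffineOpen W)
    {U : X.Opens} (hU : IsAffineOpen U) {V : Y.Opens} (hV : IsAffineOpen V) (eU : U ≤ f ⁻¹ᵁ W)
    (eV : V ≤ h ⁻¹ᵁ W) :
    letI : Algebra Γ(S, W) Γ(X, U) := (f.appLE W U eU).hom.toAlgebra
    letI : Module Γ(S, W) Γ(N, V) := Module.compHom _ (h.appLE W V eV).hom
    ∃ Φ : Γ(X, U) ⊗[Γ(S, W)] Γ(N, V) →+ Γ((Scheme.Modules.pullback q).obj N, q ⁻¹ᵁ V ⊓ g ⁻¹ᵁ U),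
      (∀ x m, Φ (x ⊗ₜ m) = g.appLE U (q ⁻¹ᵁ V ⊓ g ⁻¹ᵁ U) inf_le_right x • pullMap q N inf_le_left m) ∧
        Function.Bijective Φ := by
  obtain ⟨hT, hpo⟩ := isPushout_appLE hc hW hV hU eV eU
  let A := Γ(S, W)
  let B := Γ(Y, V)
  let C := Γ(X, U)
  let O : P.Opens := q ⁻¹ᵁ V ⊓ g ⁻¹ᵁ U
  let D' := Γ(P, O)
  let Q := Γ((Scheme.Modules.pullback q).obj N, O)
  letI : Algebra A B := (h.appLE W V eV).hom.toAlgebra
  letI : Algebra A C := (f.appLE W U eU).hom.toAlgebra
  letI : Algebra B D' := (q.appLE V O inf_le_left).hom.toAlgebra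
  letI : Algebra C D' := (g.appLE U O inf_le_right).hom.toAlgebra
  letI : Algebra A D' := ((q.appLE V O inf_le_left).hom.comp (h.appLE W V eV).hom).toAlgebra
  haveI : IsScalarTower A B D' := .of_algebraMap_eq fun _ => rfl
  haveI : IsScalarTower A C D' := .of_algebraMap_eq' (by
    show ((h.appLE W V eV) ≫ q.appLE V O inf_le_left).hom = ((f.appLE W U eU) ≫ g.appLE U O inf_le_right).hom
    simp only [Scheme.Hom.appLE_comp_appLE, hc.w])
  haveI : Algebra.IsPushout A C B D' := hpo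
  letI : Module A Γ(N, V) := Module.compHom _ (h.appLE W V eV).hom
  haveI : IsScalarTower A B Γ(N, V) := .of_algebraMap_smul fun _ _ => rfl
  letI : Module B Q := Module.compHom _ (q.appLE V O inf_le_left).hom
  haveI : IsScalarTower B D' Q := .of_algebraMap_smul fun _ _ => rfl
  letI : Module A Q := Module.compHom _ ((q.appLE V O inf_le_left).hom.comp (h.appLE W V eV).hom)
  let L : Γ(N, V) →ₗ[B] Q := pullMapL q N inf_le_left
  let d : Γ(N, V) →ₗ[A] Q :=
    { toFun := L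
      map_add' := map_add L
      map_smul' := fun a m => L.map_smul (algebraMap A B a) m }
  obtain ⟨Φ, hΦ⟩ := exists_semilinear_lift (A := A) (C := C) (algebraMap C D') (fun a x => by
    show algebraMap C D' (algebraMap A C a) • x = _
    rw [← IsScalarTower.algebraMap_apply]
    rfl) d
  refine ⟨Φ.toAddMonoidHom, hΦ, ?_⟩
  exact bijective_of_baseChange L (isBaseChange_pullMapL q N hV hT inf_le_left) (AddMonoidHom.id Q)
    Function.bijective_id Φ hΦ

variable {S : Scheme.{u}} {ι : Type u} {X : ι → Scheme.{u}} {f : ∀ i, X i ⟶ S} (D : Sys f)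
variable [∀ i, Flat (f i)] {W : S.Opens} (c : Lift f W) {j : ι} {U' : (X j).Opens}

set_option maxHeartbeats 1600000 in
include c in
/-- Over an affine open of a member the base change of the glued sections gives the sections of the member. -/
theorem exists_reading (hU' : IsAffineOpen U') (hle' : U' ≤ f j ⁻¹ᵁ W) :
    letI : Algebra Γ(S, W) Γ(X j, U') := ((f j).appLE W U' hle').hom.toAlgebra
    ∃ Ψ : Γ(X j, U') ⊗[Γ(S, W)] Γ(glued D, W) →+ Γ(D.obj j, U'),
      (∀ x m, Ψ (x ⊗ₜ m) = x • at' m j hle') ∧ Function.Bijective Ψ := by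
  letI : Algebra Γ(S, W) Γ(X j, U') := ((f j).appLE W U' hle').hom.toAlgebra
  haveI : Module.Flat Γ(S, W) Γ(X j, U') := (f j).flat_appLE c.affine hU' hle'
  let A := Γ(S, W)
  let R := Γ(X j, U')
  -- members and overlaps of the lift
  letI hNg : ∀ k, Module A Γ(D.obj (c.idx k), c.U k) := fun k =>
    Module.compHom _ ((f (c.idx k)).appLE W (c.U k) (c.hle k)).hom
  let g2 : ∀ p : c.κ × c.κ, pullback (f (c.idx p.1)) (f (c.idx p.2)) ⟶ X (c.idx p.1) := fun p => pullback.fst _ _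
  let q2 : ∀ p : c.κ × c.κ, pullback (f (c.idx p.1)) (f (c.idx p.2)) ⟶ X (c.idx p.2) := fun p => pullback.snd _ _
  let h2 : ∀ p : c.κ × c.κ, pullback (f (c.idx p.1)) (f (c.idx p.2)) ⟶ S := fun p => g2 p ≫ f (c.idx p.1)
  let V2 : ∀ p : c.κ × c.κ, (pullback (f (c.idx p.1)) (f (c.idx p.2))).Opens := fun p =>
    g2 p ⁻¹ᵁ c.U p.1 ⊓ q2 p ⁻¹ᵁ c.U p.2
  have eq2 : ∀ p : c.κ × c.κ, q2 p ≫ f (c.idx p.2) = h2 p := fun p => pullback.condition.symm
  have hV2 : ∀ p : c.κ × c.κ, IsAffineOpen (V2 p) := fun p =>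
    (isPushout_appLE (IsPullback.of_hasPullback (f (c.idx p.1)) (f (c.idx p.2))) c.affine (c.hU p.1) (c.hU p.2)
      (c.hle p.1) (c.hle p.2)).1
  have hV2W : ∀ p : c.κ × c.κ, V2 p ≤ h2 p ⁻¹ᵁ W := fun p => inf_le_left.trans ((g2 p).preimage_mono (c.hle p.1))
  let N2 : ∀ p : c.κ × c.κ, (pullback (f (c.idx p.1)) (f (c.idx p.2))).Modules := fun p =>
    (Scheme.Modules.pullback (q2 p)).obj (D.obj (c.idx p.2))
  haveI : ∀ p : c.κ × c.κ, Coh.IsQCoh (N2 p) := fun p => isQCoh_pullback (q2 p) (D.obj (c.idx p.2))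
  letI hNq : ∀ p : c.κ × c.κ, Module A Γ(N2 p, V2 p) := fun p =>
    Module.compHom _ ((h2 p).appLE W (V2 p) (hV2W p)).hom
  let d0 : ∀ p : c.κ × c.κ, Γ(D.obj (c.idx p.1), c.U p.1) →ₗ[A] Γ(N2 p, V2 p) := fun p =>
    { toFun := fun n => (D.θ (h2 p) (g2 p) (q2 p) rfl (eq2 p)).app (V2 p)
        (pullMap (g2 p) (D.obj (c.idx p.1)) inf_le_left n)
      map_add' := fun x y => by simp only [map_add]
      map_smul' := fun a n => by
        show (D.θ (h2 p) (g2 p) (q2 p) rfl (eq2 p)).app (V2 p) (pullMap (g2 p) _ inf_le_left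
          ((f (c.idx p.1)).appLE W (c.U p.1) (c.hle p.1) a • n)) =
          (h2 p).appLE W (V2 p) (hV2W p) a • (D.θ (h2 p) (g2 p) (q2 p) rfl (eq2 p)).app (V2 p)
            (pullMap (g2 p) _ inf_le_left n)
        rw [pullMap_smul, Scheme.Modules.Hom.app_smul]
        congr 1
        show ((f (c.idx p.1)).appLE W (c.U p.1) (c.hle p.1) ≫ (g2 p).appLE (c.U p.1) (V2 p) inf_le_left) a = _
        rw [Scheme.Hom.appLE_comp_appLE] }
  let d1 : ∀ p : c.κ × c.κ, Γ(D.obj (c.idx p.2), c.U p.2) →ₗ[A] Γ(N2 p, V2 p) := fun p =>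
    { toFun := fun n => pullMap (q2 p) (D.obj (c.idx p.2)) inf_le_right n
      map_add' := fun x y => by simp only [map_add]
      map_smul' := fun a n => by
        show pullMap (q2 p) _ (W' := V2 p) inf_le_right ((f (c.idx p.2)).appLE W (c.U p.2) (c.hle p.2) a • n) =
          (h2 p).appLE W (V2 p) (hV2W p) a • pullMap (q2 p) _ (W' := V2 p) inf_le_right n
        rw [pullMap_smul]
        congr 1
        show ((f (c.idx p.2)).appLE W (c.U p.2) (c.hle p.2) ≫ (q2 p).appLE (c.U p.2) (V2 p) inf_le_right) a = _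
        rw [Scheme.Hom.appLE_comp_appLE]
        simp only [eq2] }
  let δ : (∀ k, Γ(D.obj (c.idx k), c.U k)) →ₗ[A] ∀ p : c.κ × c.κ, Γ(N2 p, V2 p) :=
    LinearMap.pi fun p => (d0 p).comp (LinearMap.proj p.1) - (d1 p).comp (LinearMap.proj p.2)
  let ιM : Γ(glued D, W) →ₗ[A] ∀ k, Γ(D.obj (c.idx k), c.U k) :=
    { toFun := fun m k => at' m (c.idx k) (c.hle k)
      map_add' := fun m m' => funext fun k => by
        show at' (m + m') _ _ = at' m _ _ + at' m' _ _
        unfold at'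
        simp only [map_add]
      map_smul' := fun a m => funext fun k => at'_smul a m (c.idx k) (c.hle k) }
  have hinjι : Function.Injective ιM := fun m m' h => sec_ext c fun k => congrFun h k
  have hex : Function.Exact ιM δ := fun n => by
    constructor
    · intro hn
      obtain ⟨m, hm⟩ := exists_sec c n fun k l =>
        glued_of_univ (sub_eq_zero.1 (congrFun hn (k, l)))
      exact ⟨m, funext hm⟩
    · rintro ⟨m, rfl⟩
      exact funext fun p => sub_eq_zero.2
        (glued_at' m (c.hle p.1) (c.hle p.2) _ (g2 p) (q2 p) (eq2 p) (V2 p) inf_le_left inf_le_right)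
  -- base change of the members and of the overlaps
  let P1 : c.κ → Scheme.{u} := fun k => pullback (f (c.idx k)) (f j)
  let q1 : ∀ k, P1 k ⟶ X (c.idx k) := fun k => pullback.fst _ _
  let g1 : ∀ k, P1 k ⟶ X j := fun k => pullback.snd _ _
  let T1 : ∀ k, (P1 k).Opens := fun k => q1 k ⁻¹ᵁ c.U k ⊓ g1 k ⁻¹ᵁ U'
  have eq1 : ∀ k, g1 k ≫ f j = q1 k ≫ f (c.idx k) := fun k => pullback.condition.symm
  choose Φ1 hΦ1 hb1 using fun k => exists_sectionsTensor (IsPullback.of_hasPullback (f (c.idx k)) (f j))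
    (D.obj (c.idx k)) c.affine hU' (c.hU k) hle' (c.hle k)
  let P2 : c.κ × c.κ → Scheme.{u} := fun p => pullback (h2 p) (f j)
  let b : ∀ p : c.κ × c.κ, P2 p ⟶ pullback (f (c.idx p.1)) (f (c.idx p.2)) := fun p => pullback.fst _ _
  let cc : ∀ p : c.κ × c.κ, P2 p ⟶ X j := fun p => pullback.snd _ _
  let T2 : ∀ p : c.κ × c.κ, (P2 p).Opens := fun p => b p ⁻¹ᵁ V2 p ⊓ cc p ⁻¹ᵁ U'
  choose Φ2 hΦ2 hb2 using fun p => exists_sectionsTensor (IsPullback.of_hasPullback (h2 p) (f j))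
    (N2 p) c.affine hU' (hV2 p) hle' (hV2W p)
  have eb : ∀ p : c.κ × c.κ, (b p ≫ g2 p) ≫ f (c.idx p.1) = b p ≫ h2 p := fun p => Category.assoc _ _ _
  have eb' : ∀ p : c.κ × c.κ, (b p ≫ q2 p) ≫ f (c.idx p.2) = b p ≫ h2 p := fun p => by rw [Category.assoc, eq2]
  have ec : ∀ p : c.κ × c.κ, cc p ≫ f j = b p ≫ h2 p := fun p => pullback.condition.symm
  let t0 : ∀ p : c.κ × c.κ, P2 p ⟶ P1 p.1 := fun p =>
    pullback.lift (b p ≫ g2 p) (cc p) ((eb p).trans (ec p).symm)
  let t1 : ∀ p : c.κ × c.κ, P2 p ⟶ P1 p.2 := fun p =>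
    pullback.lift (b p ≫ q2 p) (cc p) ((eb' p).trans (ec p).symm)
  have ht0 : ∀ p : c.κ × c.κ, T2 p ≤ t0 p ⁻¹ᵁ T1 p.1 := fun p x hx => by
    refine ⟨?_, ?_⟩
    · show q1 p.1 (t0 p x) ∈ c.U p.1
      rw [← Scheme.Hom.comp_apply, pullback.lift_fst]
      exact hx.1.1
    · show g1 p.1 (t0 p x) ∈ U'
      rw [← Scheme.Hom.comp_apply, pullback.lift_snd]
      exact hx.2
  have ht1 : ∀ p : c.κ × c.κ, T2 p ≤ t1 p ⁻¹ᵁ T1 p.2 := fun p x hx => by
    refine ⟨?_, ?_⟩
    · show q1 p.2 (t1 p x) ∈ c.U p.2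
      rw [← Scheme.Hom.comp_apply, pullback.lift_fst]
      exact hx.1.2
    · show g1 p.2 (t1 p x) ∈ U'
      rw [← Scheme.Hom.comp_apply, pullback.lift_snd]
      exact hx.2
  have hcc0 : ∀ (p : c.κ × c.κ) (x : R), (t0 p).appLE (T1 p.1) (T2 p) (ht0 p) ((g1 p.1).appLE U' (T1 p.1) inf_le_right x) =
      (cc p).appLE U' (T2 p) inf_le_right x := fun p x => by
    show ((g1 p.1).appLE U' (T1 p.1) inf_le_right ≫ (t0 p).appLE (T1 p.1) (T2 p) (ht0 p)) x = _
    rw [Scheme.Hom.appLE_comp_appLE]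
    simp only [t0, g1, pullback.lift_snd]
  have hcc1 : ∀ (p : c.κ × c.κ) (x : R), (t1 p).appLE (T1 p.2) (T2 p) (ht1 p) ((g1 p.2).appLE U' (T1 p.2) inf_le_right x) =
      (cc p).appLE U' (T2 p) inf_le_right x := fun p x => by
    show ((g1 p.2).appLE U' (T1 p.2) inf_le_right ≫ (t1 p).appLE (T1 p.2) (T2 p) (ht1 p)) x = _
    rw [Scheme.Hom.appLE_comp_appLE]
    simp only [t1, g1, pullback.lift_snd]
  -- the identifications on the overlaps
  let C2 := fun p : c.κ × c.κ => (cmpIso (D.obj (c.idx p.2)) (b p) (f := q2 p) (h := b p ≫ q2 p) rfl).hom.app (T2 p)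
  have hC2 : ∀ p : c.κ × c.κ, Function.Bijective (C2 p) := fun p => (ConcreteCategory.isIso_iff_bijective _).1 inferInstance
  have hC2pl : ∀ (p : c.κ × c.κ) x (y : Γ(N2 p, V2 p)), C2 p (Φ2 p (x ⊗ₜ y)) =
      (cc p).appLE U' (T2 p) inf_le_right x • plMap (D.obj (c.idx p.2)) (b p) rfl inf_le_left y :=
    fun p x y => by
      rw [hΦ2 p x y]
      refine (Scheme.Modules.Hom.app_smul _ _ _).trans (congrArg _ ?_)
      exact (plMap_eq (D.obj (c.idx p.2)) (b p) rfl inf_le_left y).symm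
  have key0 : ∀ (p : c.κ × c.κ) (w : R ⊗[A] Γ(D.obj (c.idx p.1), c.U p.1)),
      (D.θ (b p ≫ h2 p) (b p ≫ g2 p) (b p ≫ q2 p) (eb p) (eb' p)).app (T2 p)
        (plMap (D.obj (c.idx p.1)) (t0 p) (pullback.lift_fst _ _ _) (ht0 p) (Φ1 p.1 w)) =
      C2 p (Φ2 p ((d0 p).lTensor R w)) := fun p w => by
    induction w using TensorProduct.induction_on with
    | zero => simp
    | add y z hy hz => simp only [map_add, hy, hz]
    | tmul x n =>
      rw [hΦ1 p.1 x n, LinearMap.lTensor_tmul, hC2pl, plMap_smul, hcc0, Scheme.Modules.Hom.app_smul,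
        plMap_pullMap (D.obj (c.idx p.1)) (t0 p) _ inf_le_left (ht0 p)
          (fun y hy => hy.1.1 : T2 p ≤ (b p ≫ g2 p) ⁻¹ᵁ c.U p.1)]
      refine congrArg _ ?_
      rw [show d0 p n = (D.θ (h2 p) (g2 p) (q2 p) rfl (eq2 p)).app (V2 p)
          (pullMap (g2 p) (D.obj (c.idx p.1)) inf_le_left n) from rfl,
        plMap_θ D (b p) (h2 p) (b p ≫ h2 p) rfl (g2 p) (q2 p) rfl (eq2 p) (b p ≫ g2 p) (b p ≫ q2 p) rfl rfl
          (eb p) (eb' p) inf_le_left, plMap_pullMap]
  have key1 : ∀ (p : c.κ × c.κ) (w : R ⊗[A] Γ(D.obj (c.idx p.2), c.U p.2)),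
      plMap (D.obj (c.idx p.2)) (t1 p) (pullback.lift_fst _ _ _) (ht1 p) (Φ1 p.2 w) =
      C2 p (Φ2 p ((d1 p).lTensor R w)) := fun p w => by
    induction w using TensorProduct.induction_on with
    | zero => simp
    | add y z hy hz => simp only [map_add, hy, hz]
    | tmul x n =>
      rw [hΦ1 p.2 x n, LinearMap.lTensor_tmul, hC2pl, plMap_smul, hcc1,
        plMap_pullMap (D.obj (c.idx p.2)) (t1 p) _ inf_le_left (ht1 p)
          (fun y hy => hy.1.2 : T2 p ≤ (b p ≫ q2 p) ⁻¹ᵁ c.U p.2)]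
      refine congrArg _ ?_
      rw [show d1 p n = pullMap (q2 p) (D.obj (c.idx p.2)) inf_le_right n from rfl, plMap_pullMap]
  -- the reading
  obtain ⟨Ψ, hΨ⟩ : ∃ Ψ : R ⊗[A] Γ(glued D, W) →+ Γ(D.obj j, U'), ∀ x m, Ψ (x ⊗ₜ m) = x • at' m j hle' := by
    letI : Module A Γ(D.obj j, U') := Module.compHom _ ((f j).appLE W U' hle').hom
    obtain ⟨Φ, hΦ⟩ := exists_semilinear_lift (A := A) (C := R) (RingHom.id R) (fun _ _ => rfl)
      ({ toFun := fun m => at' m j hle'
         map_add' := fun m m' => by unfold at'; simp only [map_add]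
         map_smul' := fun a m => at'_smul a m j hle' } : Γ(glued D, W) →ₗ[A] Γ(D.obj j, U'))
    exact ⟨Φ.toAddMonoidHom, hΦ⟩
  let u : ∀ k, Γ(D.obj j, U') → Γ((Scheme.Modules.pullback (q1 k)).obj (D.obj (c.idx k)), T1 k) := fun k z =>
    (D.θ (q1 k ≫ f (c.idx k)) (g1 k) (q1 k) (eq1 k) rfl).app (T1 k) (pullMap (g1 k) (D.obj j) inf_le_right z)
  have keyΨ : ∀ k (w : R ⊗[A] Γ(glued D, W)),
      u k (Ψ w) = Φ1 k (((LinearMap.proj k).comp ιM).lTensor R w) := fun k w => by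
    induction w using TensorProduct.induction_on with
    | zero => simp [u]
    | add y z hy hz =>
      simp only [map_add, ← hy, ← hz]
      simp only [u, map_add]
    | tmul x m =>
      rw [hΨ, LinearMap.lTensor_tmul, hΦ1]
      show (D.θ _ _ _ _ _).app (T1 k) (pullMap (g1 k) _ _ (x • at' m j hle')) = _
      rw [pullMap_smul, Scheme.Modules.Hom.app_smul]
      refine congrArg _ ?_
      exact (rel_iff (q1 k ≫ f (c.idx k)) (g1 k) (q1 k) (eq1 k) rfl inf_le_right inf_le_left).1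
        (glued_at' m hle' (c.hle k) (P1 k) (g1 k) (q1 k) (eq1 k).symm (T1 k) inf_le_right inf_le_left)
  have hu : ∀ z z', (∀ k, u k z = u k z') → z = z' := fun z z' h => by
    haveI : ∀ k, Flat (g1 k) := fun k => inferInstance
    refine (sections_family g1 (D.obj j) hU' id T1 (fun k => ?_) (fun k => inf_le_right) (fun s hs => ?_)).1 z z'
      fun k => ?_
    · exact (isPushout_appLE (IsPullback.of_hasPullback (f (c.idx k)) (f j)) c.affine (c.hU k) hU' (c.hle k) hle').1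
    · obtain ⟨k, x, hx, he⟩ := c.hcov (f j s) (hle' hs)
      obtain ⟨p, hp1, hp2⟩ := Scheme.Pullback.exists_preimage_pullback x s he
      exact ⟨k, p, ⟨show q1 k p ∈ c.U k by rw [show q1 k p = x from hp1]; exact hx,
        show g1 k p ∈ U' by rw [show g1 k p = s from hp2]; exact hs⟩, hp2⟩
    · have hk := congrArg ((D.θ (q1 k ≫ f (c.idx k)) (q1 k) (g1 k) rfl (eq1 k)).app (T1 k)) (h k)
      simp only [u, θ_app_comp, θ_app_self] at hk
      exact hk
  refine ⟨Ψ, hΨ, fun w w' h => ?_, fun z => ?_⟩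
  · refine Module.Flat.lTensor_preserves_injective_linearMap (M := R) ιM hinjι
      ((lTensor_proj_jointly_injective _).1 (funext fun k => (hb1 k).1 ?_))
    show Φ1 k ((LinearMap.proj k).lTensor R (ιM.lTensor R w)) = Φ1 k ((LinearMap.proj k).lTensor R (ιM.lTensor R w'))
    rw [← LinearMap.lTensor_comp_apply, ← LinearMap.lTensor_comp_apply, ← keyΨ, ← keyΨ, h]
  · choose wk hwk using fun k => (hb1 k).2 (u k z)
    obtain ⟨w, hw⟩ := (lTensor_proj_jointly_injective (A := A) (R := R)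
      (fun k => Γ(D.obj (c.idx k), c.U k))).2 wk
    have hwk' : ∀ k, (LinearMap.proj k : (∀ k, Γ(D.obj (c.idx k), c.U k)) →ₗ[A] _).lTensor R w = wk k :=
      fun k => congrFun hw k
    have hδ : δ.lTensor R w = 0 := by
      refine (lTensor_proj_jointly_injective _).1 (funext fun p => ?_)
      show (LinearMap.proj (R := A) (φ := fun p : c.κ × c.κ => Γ(N2 p, V2 p)) p).lTensor R (δ.lTensor R w) =
        (LinearMap.proj (R := A) (φ := fun p : c.κ × c.κ => Γ(N2 p, V2 p)) p).lTensor R 0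
      rw [← LinearMap.lTensor_comp_apply, map_zero,
        show (LinearMap.proj (R := A) (φ := fun p : c.κ × c.κ => Γ(N2 p, V2 p)) p).comp δ =
        (d0 p).comp (LinearMap.proj p.1) - (d1 p).comp (LinearMap.proj p.2) from rfl, LinearMap.lTensor_sub,
        LinearMap.sub_apply, LinearMap.lTensor_comp_apply, LinearMap.lTensor_comp_apply, hwk', hwk', sub_eq_zero]
      refine (hb2 p).1 ((hC2 p).1 ?_)
      rw [← key0, ← key1, hwk, hwk]
      simp only [u]
      rw [plMap_θ D (t0 p) (q1 p.1 ≫ f (c.idx p.1)) (b p ≫ h2 p)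
          (by rw [← Category.assoc, pullback.lift_fst, eb]) (g1 p.1) (q1 p.1) (eq1 p.1) rfl (cc p) (b p ≫ g2 p)
          (pullback.lift_snd _ _ _) (pullback.lift_fst _ _ _) (ec p) (eb p) (ht0 p),
        plMap_θ D (t1 p) (q1 p.2 ≫ f (c.idx p.2)) (b p ≫ h2 p)
          (by rw [← Category.assoc, pullback.lift_fst, eb']) (g1 p.2) (q1 p.2) (eq1 p.2) rfl (cc p) (b p ≫ q2 p)
          (pullback.lift_snd _ _ _) (pullback.lift_fst _ _ _) (ec p) (eb' p) (ht1 p),
        plMap_pullMap (D.obj j) (t0 p) _ inf_le_right (ht0 p) (inf_le_right : T2 p ≤ cc p ⁻¹ᵁ U'),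
        plMap_pullMap (D.obj j) (t1 p) _ inf_le_right (ht1 p) (inf_le_right : T2 p ≤ cc p ⁻¹ᵁ U'),
        θ_app_comp]
    obtain ⟨w0, hw0⟩ := (Module.Flat.lTensor_exact R hex w).1 hδ
    refine ⟨w0, hu _ _ fun k => ?_⟩
    rw [keyΨ, LinearMap.lTensor_comp_apply, hw0, hwk', hwk]

end Groth.Agent.FamilyDesc
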