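import Groth.Agent.FpqcQCoh.Family
import Groth.Agent.QCohLib.Exact

/-!
# Gluing systems for modules along a family of morphisms, read on sections
-/

set_option autoImplicit false
set_option backward.isDefEq.respectTransparency false
set_option backward.defeqAttrib.useBackward true
set_option linter.style.haveILetI false

universe u

open CategoryTheory CategoryTheory.Limits AlgebraicGeometry TopologicalSpace Opposite
open Groth.Agent.PullbackMod Groth.Agent.CohBase Groth.Agent.FpqcQCoh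

namespace Groth.Agent.FamilyDesc

/-- Equality of sections of a module is local. -/
theorem eq_of_cover {X : Scheme.{u}} (F : X.Modules) {V : X.Opens} {σ : Type*} (Vs : σ → X.Opens)
    (hle : ∀ s, Vs s ≤ V) (hcov : V ≤ ⨆ s, Vs s) (x y : Γ(F, V))
    (h : ∀ s, F.presheaf.map (homOfLE (hle s)).op x = F.presheaf.map (homOfLE (hle s)).op y) : x = y :=
  TopCat.Sheaf.eq_of_locally_eq' (⟨F.presheaf, F.isSheaf⟩ : TopCat.Sheaf Ab.{u} X.carrier) Vs V
    (fun s => homOfLE (hle s)) hcov x y h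

theorem plMap_eq {Z Y T : Scheme.{u}} (N : Y.Modules) {g : Z ⟶ Y} (t : T ⟶ Z) {h : T ⟶ Y} (e : t ≫ g = h)
    {U : Z.Opens} {V : T.Opens} (hV : V ≤ t ⁻¹ᵁ U) (x : Γ((Scheme.Modules.pullback g).obj N, U)) :
    plMap N t e hV x = (cmpIso N t e).hom.app V (pullMap t ((Scheme.Modules.pullback g).obj N) hV x) := by
  show ((Scheme.Modules.pullback h).obj N).presheaf.map (homOfLE hV).op ((vMap N t e).app U x) = _
  rw [vMap, Adjunction.homEquiv_unit]
  show ((Scheme.Modules.pullback h).obj N).presheaf.map (homOfLE hV).op ((cmpIso N t e).hom.app (t ⁻¹ᵁ U) _) =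
    (cmpIso N t e).hom.app V (((Scheme.Modules.pullback t).obj _).presheaf.map (homOfLE hV).op _)
  exact (QCohLib.app_res _ hV _).symm

variable {S : Scheme.{u}} {ι : Type u} {X : ι → Scheme.{u}}

/-- Modules on the members with transitive natural identifications on overlaps. -/
structure Sys (f : ∀ i, X i ⟶ S) where
  /-- The modules. -/
  obj : ∀ i, (X i).Modules
  qcoh : ∀ i, Coh.IsQCoh (obj i)
  /-- The identifications. -/
  θ : ∀ ⦃T : Scheme.{u}⦄ (h : T ⟶ S) ⦃i j : ι⦄ (a : T ⟶ X i) (b : T ⟶ X j),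
    a ≫ f i = h → b ≫ f j = h → ((Scheme.Modules.pullback a).obj (obj i) ⟶ (Scheme.Modules.pullback b).obj (obj j))
  natural : ∀ ⦃T T' : Scheme.{u}⦄ (g : T' ⟶ T) (h : T ⟶ S) (h' : T' ⟶ S) (_ : g ≫ h = h') ⦃i j : ι⦄
    (a : T ⟶ X i) (b : T ⟶ X j) (ea : a ≫ f i = h) (eb : b ≫ f j = h) (a' : T' ⟶ X i) (b' : T' ⟶ X j)
    (ha : g ≫ a = a') (hb : g ≫ b = b') (ea' : a' ≫ f i = h') (eb' : b' ≫ f j = h'),
    θ h a b ea eb ≫ vMap (obj j) g hb =
      vMap (obj i) g ha ≫ (Scheme.Modules.pushforward g).map (θ h' a' b' ea' eb')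
  θ_self : ∀ ⦃T : Scheme.{u}⦄ (h : T ⟶ S) ⦃i : ι⦄ (a : T ⟶ X i) (e : a ≫ f i = h), θ h a a e e = 𝟙 _
  θ_comp : ∀ ⦃T : Scheme.{u}⦄ (h : T ⟶ S) ⦃i j l : ι⦄ (a : T ⟶ X i) (b : T ⟶ X j) (c : T ⟶ X l)
    (ea : a ≫ f i = h) (eb : b ≫ f j = h) (ec : c ≫ f l = h), θ h a b ea eb ≫ θ h b c eb ec = θ h a c ea ec

attribute [instance] Sys.qcoh

variable {f : ∀ i, X i ⟶ S} (D : Sys f)

theorem θ_app_comp {T : Scheme.{u}} (h : T ⟶ S) {i j l : ι} (a : T ⟶ X i) (b : T ⟶ X j) (c : T ⟶ X l)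
    (ea : a ≫ f i = h) (eb : b ≫ f j = h) (ec : c ≫ f l = h) (V : T.Opens)
    (x : Γ((Scheme.Modules.pullback a).obj (D.obj i), V)) :
    (D.θ h b c eb ec).app V ((D.θ h a b ea eb).app V x) = (D.θ h a c ea ec).app V x := by
  rw [← D.θ_comp h a b c ea eb ec]
  rfl

theorem θ_app_self {T : Scheme.{u}} (h : T ⟶ S) {i : ι} (a : T ⟶ X i) (e : a ≫ f i = h) (V : T.Opens)
    (x : Γ((Scheme.Modules.pullback a).obj (D.obj i), V)) : (D.θ h a a e e).app V x = x := by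
  rw [D.θ_self]
  rfl

theorem plMap_θ {T T' : Scheme.{u}} (g : T' ⟶ T) (h : T ⟶ S) (h' : T' ⟶ S) (eh : g ≫ h = h') {i j : ι}
    (a : T ⟶ X i) (b : T ⟶ X j) (ea : a ≫ f i = h) (eb : b ≫ f j = h) (a' : T' ⟶ X i) (b' : T' ⟶ X j)
    (ha : g ≫ a = a') (hb : g ≫ b = b') (ea' : a' ≫ f i = h') (eb' : b' ≫ f j = h') {V : T.Opens}
    {V' : T'.Opens} (hV : V' ≤ g ⁻¹ᵁ V) (x : Γ((Scheme.Modules.pullback a).obj (D.obj i), V)) :
    plMap (D.obj j) g hb hV ((D.θ h a b ea eb).app V x) =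
      (D.θ h' a' b' ea' eb').app V' (plMap (D.obj i) g ha hV x) := by
  have hn := ConcreteCategory.congr_hom (congrArg
    (fun τ : (Scheme.Modules.pullback a).obj (D.obj i) ⟶ _ => τ.app V)
    (D.natural g h h' eh a b ea eb a' b' ha hb ea' eb')) x
  show ((Scheme.Modules.pullback b').obj (D.obj j)).presheaf.map (homOfLE hV).op
    ((vMap (D.obj j) g hb).app V ((D.θ h a b ea eb).app V x)) = _
  refine (congrArg _ hn).trans ?_
  exact (QCohLib.app_res (D.θ h' a' b' ea' eb') hV _).symm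

/-- Two sections correspond over an open of a scheme over both. -/
def Rel {T : Scheme.{u}} {i j : ι} (a : T ⟶ X i) (b : T ⟶ X j) (e : b ≫ f j = a ≫ f i) {U : (X i).Opens}
    {U' : (X j).Opens} (V : T.Opens) (ha : V ≤ a ⁻¹ᵁ U) (hb : V ≤ b ⁻¹ᵁ U') (y : Γ(D.obj i, U))
    (z : Γ(D.obj j, U')) : Prop :=
  (D.θ (a ≫ f i) a b rfl e).app V (pullMap a (D.obj i) ha y) = pullMap b (D.obj j) hb z

variable {D}

theorem rel_iff {T : Scheme.{u}} (h : T ⟶ S) {i j : ι} (a : T ⟶ X i) (b : T ⟶ X j) (ea : a ≫ f i = h)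
    (eb : b ≫ f j = h) {U : (X i).Opens} {U' : (X j).Opens} {V : T.Opens} (ha : V ≤ a ⁻¹ᵁ U)
    (hb : V ≤ b ⁻¹ᵁ U') {y : Γ(D.obj i, U)} {z : Γ(D.obj j, U')} :
    Rel D a b (eb.trans ea.symm) V ha hb y z ↔
      (D.θ h a b ea eb).app V (pullMap a (D.obj i) ha y) = pullMap b (D.obj j) hb z := by
  subst ea
  exact Iff.rfl

variable {T : Scheme.{u}} {i j l : ι} {a : T ⟶ X i} {b : T ⟶ X j} {e : b ≫ f j = a ≫ f i}
  {U : (X i).Opens} {U' : (X j).Opens} {V : T.Opens} {ha : V ≤ a ⁻¹ᵁ U} {hb : V ≤ b ⁻¹ᵁ U'}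
  {y : Γ(D.obj i, U)} {z : Γ(D.obj j, U')}

theorem Rel.symm (h : Rel D a b e V ha hb y z) : Rel D b a e.symm V hb ha z y := by
  rw [rel_iff (a ≫ f i) b a e rfl]
  rw [← h, θ_app_comp, θ_app_self]

theorem Rel.trans (h : Rel D a b e V ha hb y z) {c : T ⟶ X l} {e' : c ≫ f l = b ≫ f j} {U'' : (X l).Opens}
    {hc : V ≤ c ⁻¹ᵁ U''} {w : Γ(D.obj l, U'')} (h' : Rel D b c e' V hb hc z w) :
    Rel D a c (e'.trans e) V ha hc y w := by
  rw [rel_iff (a ≫ f i) b c e (e'.trans e)] at h'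
  show (D.θ (a ≫ f i) a c rfl (e'.trans e)).app V (pullMap a (D.obj i) ha y) = _
  rw [← θ_app_comp D (a ≫ f i) a b c rfl e (e'.trans e), h, h']

theorem Rel.pull (h : Rel D a b e V ha hb y z) {T' : Scheme.{u}} (g : T' ⟶ T) {a' : T' ⟶ X i} {b' : T' ⟶ X j}
    (hga : g ≫ a = a') (hgb : g ≫ b = b') (e' : b' ≫ f j = a' ≫ f i) {V' : T'.Opens} (hV : V' ≤ g ⁻¹ᵁ V)
    (ha' : V' ≤ a' ⁻¹ᵁ U) (hb' : V' ≤ b' ⁻¹ᵁ U') : Rel D a' b' e' V' ha' hb' y z := by
  show (D.θ (a' ≫ f i) a' b' rfl e').app V' (pullMap a' (D.obj i) ha' y) = _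
  rw [← plMap_pullMap (D.obj i) g hga ha hV ha' y, ← plMap_θ D g (a ≫ f i) (a' ≫ f i)
    (by rw [← Category.assoc, hga]) a b rfl e a' b' hga hgb rfl e' hV, h, plMap_pullMap]

theorem Rel.of_cover {σ : Type*} (Vs : σ → T.Opens) (hle : ∀ s, Vs s ≤ V) (hcov : V ≤ ⨆ s, Vs s)
    (h : ∀ s, Rel D a b e (Vs s) ((hle s).trans ha) ((hle s).trans hb) y z) : Rel D a b e V ha hb y z := by
  refine eq_of_cover _ Vs hle hcov _ _ fun s => ?_
  rw [← QCohLib.app_res, pullMap_res a (D.obj i) ha le_rfl (hle s) ((hle s).trans ha),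
    pullMap_res b (D.obj j) hb le_rfl (hle s) ((hle s).trans hb), restr_self, restr_self]
  exact h s

theorem rel_res {U₁ : (X i).Opens} (hU : U₁ ≤ U) {U₁' : (X j).Opens} (hU' : U₁' ≤ U') (ha₁ : V ≤ a ⁻¹ᵁ U₁)
    (hb₁ : V ≤ b ⁻¹ᵁ U₁') (e : b ≫ f j = a ≫ f i) (y : Γ(D.obj i, U)) (z : Γ(D.obj j, U')) :
    Rel D a b e V ha₁ hb₁ ((D.obj i).presheaf.map (homOfLE hU).op y) ((D.obj j).presheaf.map (homOfLE hU').op z) ↔
      Rel D a b e V (ha₁.trans (a.preimage_mono hU)) (hb₁.trans (b.preimage_mono hU')) y z := by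
  unfold Rel
  rw [← pullMap_res a (D.obj i) (ha₁.trans (a.preimage_mono hU)) hU le_rfl ha₁,
    ← pullMap_res b (D.obj j) (hb₁.trans (b.preimage_mono hU')) hU' le_rfl hb₁, restr_self, restr_self]

/-- Two sections correspond over every scheme over both. -/
def Glued (D : Sys f) {i j : ι} {U : (X i).Opens} {U' : (X j).Opens} (y : Γ(D.obj i, U))
    (z : Γ(D.obj j, U')) : Prop :=
  ∀ (T : Scheme.{u}) (a : T ⟶ X i) (b : T ⟶ X j) (e : b ≫ f j = a ≫ f i) (V : T.Opens)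
    (ha : V ≤ a ⁻¹ᵁ U) (hb : V ≤ b ⁻¹ᵁ U'), Rel D a b e V ha hb y z

theorem Glued.symm (h : Glued D y z) : Glued D z y := fun T a b e V ha hb => (h T b a e.symm V hb ha).symm

theorem Glued.res (h : Glued D y z) {U₁ : (X i).Opens} (hU : U₁ ≤ U) {U₁' : (X j).Opens} (hU' : U₁' ≤ U') :
    Glued D ((D.obj i).presheaf.map (homOfLE hU).op y) ((D.obj j).presheaf.map (homOfLE hU').op z) :=
  fun T a b e V ha hb => (rel_res hU hU' ha hb e y z).2 (h T a b e V _ _)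

theorem glued_of_univ
    (h : Rel D (pullback.fst (f i) (f j)) (pullback.snd (f i) (f j)) pullback.condition.symm
      (pullback.fst (f i) (f j) ⁻¹ᵁ U ⊓ pullback.snd (f i) (f j) ⁻¹ᵁ U') inf_le_left inf_le_right y z) :
    Glued D y z := fun T a b e V ha hb => by
  refine h.pull (pullback.lift a b e.symm) (pullback.lift_fst _ _ _) (pullback.lift_snd _ _ _) e ?_ ha hb
  intro x hx
  refine ⟨?_, ?_⟩
  · show pullback.fst (f i) (f j) (pullback.lift a b e.symm x) ∈ U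
    rw [← Scheme.Hom.comp_apply, pullback.lift_fst]
    exact ha hx
  · show pullback.snd (f i) (f j) (pullback.lift a b e.symm x) ∈ U'
    rw [← Scheme.Hom.comp_apply, pullback.lift_snd]
    exact hb hx

theorem glued_self {U₁ : (X i).Opens} (m : Γ(D.obj i, U₁)) (T : Scheme.{u}) (a : T ⟶ X i) (V : T.Opens)
    (ha : V ≤ a ⁻¹ᵁ U₁) : Rel D a a rfl V ha ha m m := θ_app_self D _ a rfl V _

/-- An affine open of the base with a finite affine family over it. -/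
structure Lift (f : ∀ i, X i ⟶ S) (W : S.Opens) where
  affine : IsAffineOpen W
  /-- The index type. -/
  κ : Type u
  [fintype : Fintype κ]
  /-- The members. -/
  idx : κ → ι
  /-- The opens. -/
  U : ∀ k, (X (idx k)).Opens
  hU : ∀ k, IsAffineOpen (U k)
  hle : ∀ k, U k ≤ f (idx k) ⁻¹ᵁ W
  hcov : ∀ s ∈ W, ∃ k, ∃ x ∈ U k, f (idx k) x = s

attribute [instance] Lift.fintype

variable [∀ i, Flat (f i)]

/-- Sections over an affine open of a member are the families glued to a given one. -/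
theorem existsUnique_glued {W : S.Opens} (c : Lift f W) (y : ∀ k, Γ(D.obj (c.idx k), c.U k))
    (hy : ∀ k l, Glued D (y k) (y l)) {j : ι} {U' : (X j).Opens} (hU' : IsAffineOpen U') (hle' : U' ≤ f j ⁻¹ᵁ W) :
    ∃! z : Γ(D.obj j, U'), ∀ k, Glued D z (y k) := by
  let P : c.κ → Scheme.{u} := fun k => pullback (f j) (f (c.idx k))
  let g : ∀ k, P k ⟶ X j := fun k => pullback.fst (f j) (f (c.idx k))
  let q : ∀ k, P k ⟶ X (c.idx k) := fun k => pullback.snd (f j) (f (c.idx k))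
  let V : ∀ k, (P k).Opens := fun k => g k ⁻¹ᵁ U' ⊓ q k ⁻¹ᵁ c.U k
  have hV : ∀ k, IsAffineOpen (V k) := fun k =>
    (isPushout_appLE (IsPullback.of_hasPullback (f j) (f (c.idx k))) c.affine hU' (c.hU k) hle' (c.hle k)).1
  have hcov : ∀ s ∈ U', ∃ k, ∃ x ∈ V k, g k x = s := fun s hs => by
    obtain ⟨k, x, hx, he⟩ := c.hcov (f j s) (hle' hs)
    obtain ⟨p, hp1, hp2⟩ := Scheme.Pullback.exists_preimage_pullback s x he.symm
    exact ⟨k, p, ⟨show g k p ∈ U' by rw [show g k p = s from hp1]; exact hs,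
      show q k p ∈ c.U k by rw [show q k p = x from hp2]; exact hx⟩, hp1⟩
  haveI : ∀ k, Flat (g k) := fun k => inferInstance
  obtain ⟨hinj, hglue⟩ := sections_family g (D.obj j) hU' id V hV (fun k => inf_le_left) hcov
  refine existsUnique_of_exists_of_unique ?_ fun z z' hz hz' => hinj z z' fun k => ?_
  · have hq : ∀ k, q k ≫ f (c.idx k) = g k ≫ f j := fun k => pullback.condition.symm
    obtain ⟨z, hz⟩ := hglue (fun k => (D.θ (g k ≫ f j) (q k) (g k) (hq k) rfl).app (V k)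
      (pullMap (q k) (D.obj (c.idx k)) inf_le_right (y k))) fun k l T a b e V' ha hb => by
      have eb : (b ≫ q l) ≫ f (c.idx l) = (a ≫ g k) ≫ f j := by
        rw [Category.assoc, hq, ← Category.assoc, show b ≫ g l = a ≫ g k from e]
      have ea : (a ≫ q k) ≫ f (c.idx k) = (a ≫ g k) ≫ f j := by simp only [Category.assoc, hq]
      have hak : V' ≤ (a ≫ q k) ⁻¹ᵁ c.U k := ha.trans (a.preimage_mono inf_le_right)
      have hbl : V' ≤ (b ≫ q l) ⁻¹ᵁ c.U l := hb.trans (b.preimage_mono inf_le_right)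
      refine (plMap_θ D a (g k ≫ f j) ((a ≫ g k) ≫ f j) (Category.assoc _ _ _).symm (q k) (g k) (hq k) rfl
        (a ≫ q k) (a ≫ g k) rfl rfl ea rfl ha _).trans (Eq.trans ?_ (plMap_θ D b (g l ≫ f j) ((a ≫ g k) ≫ f j)
        (by rw [← Category.assoc, show b ≫ g l = a ≫ g k from e]) (q l) (g l) (hq l) rfl
        (b ≫ q l) (a ≫ g k) rfl e eb rfl hb _).symm)
      rw [plMap_pullMap (D.obj _) a rfl inf_le_right ha hak, plMap_pullMap (D.obj _) b rfl inf_le_right hb hbl]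
      have h := (rel_iff ((a ≫ g k) ≫ f j) (a ≫ q k) (b ≫ q l) ea eb hak hbl).1
        (hy k l T (a ≫ q k) (b ≫ q l) (eb.trans ea.symm) V' hak hbl)
      rw [← h, θ_app_comp]
    refine ⟨z, fun k => Glued.symm fun T a b e V' ha hb => ?_⟩
    have h : Rel D (q k) (g k) (hq k).symm (V k) inf_le_right inf_le_left (y k) z :=
      (rel_iff (g k ≫ f j) (q k) (g k) (hq k) rfl inf_le_right inf_le_left).2 (hz k).symm
    refine h.pull (pullback.lift b a e) (pullback.lift_snd _ _ _) (pullback.lift_fst _ _ _) e ?_ ha hb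
    intro x hx
    refine ⟨?_, ?_⟩
    · show g k (pullback.lift b a e x) ∈ U'
      rw [← Scheme.Hom.comp_apply, pullback.lift_fst]
      exact hb hx
    · show q k (pullback.lift b a e x) ∈ c.U k
      rw [← Scheme.Hom.comp_apply, pullback.lift_snd]
      exact ha hx
  · have hq : q k ≫ f (c.idx k) = g k ≫ f j := pullback.condition.symm
    have h := (hz k (P k) (g k) (q k) hq (V k) inf_le_left inf_le_right).trans
      ((hz' k (P k) (g k) (q k) hq (V k) inf_le_left inf_le_right).symm)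
    exact (θ_app_self D _ (g k) rfl _ _).symm.trans h

/-- Sections glued to a common family are glued. -/
theorem glued_of_common {W : S.Opens} (c : Lift f W) (y : ∀ k, Γ(D.obj (c.idx k), c.U k))
    {i j : ι} {U : (X i).Opens} {U' : (X j).Opens} (hU : U ≤ f i ⁻¹ᵁ W) (z : Γ(D.obj i, U))
    (z' : Γ(D.obj j, U')) (hz : ∀ k, Glued D z (y k)) (hz' : ∀ k, Glued D z' (y k)) : Glued D z z' := by
  intro T a b e V ha hb
  let Js := {V' : T.Opens // IsAffineOpen V' ∧ V' ≤ V}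
  refine Rel.of_cover (fun V' : Js => V'.1) (fun V' => V'.2.2) (fun x hx => ?_) fun V' => ?_
  · obtain ⟨_, ⟨V', hV', rfl⟩, hxV', hV'V⟩ := T.isBasis_affineOpens.exists_subset_of_mem_open hx V.2
    exact Opens.mem_iSup.2 ⟨⟨V', hV', hV'V⟩, hxV'⟩
  obtain ⟨V', hV', hV'V⟩ := V'
  let h0 := a ≫ f i
  have hW : V' ≤ h0 ⁻¹ᵁ W := hV'V.trans (ha.trans (a.preimage_mono hU))
  let P : c.κ → Scheme.{u} := fun k => pullback h0 (f (c.idx k))
  let g : ∀ k, P k ⟶ T := fun k => pullback.fst h0 (f (c.idx k))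
  let q : ∀ k, P k ⟶ X (c.idx k) := fun k => pullback.snd h0 (f (c.idx k))
  let Vk : ∀ k, (P k).Opens := fun k => g k ⁻¹ᵁ V' ⊓ q k ⁻¹ᵁ c.U k
  have hVk : ∀ k, IsAffineOpen (Vk k) := fun k =>
    (isPushout_appLE (IsPullback.of_hasPullback h0 (f (c.idx k))) c.affine hV' (c.hU k) hW (c.hle k)).1
  have hcov : ∀ s ∈ V', ∃ k, ∃ x ∈ Vk k, g k x = s := fun s hs => by
    obtain ⟨k, x, hx, he⟩ := c.hcov (h0 s) (hW hs)
    obtain ⟨p, hp1, hp2⟩ := Scheme.Pullback.exists_preimage_pullback s x he.symm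
    exact ⟨k, p, ⟨show g k p ∈ V' by rw [show g k p = s from hp1]; exact hs,
      show q k p ∈ c.U k by rw [show q k p = x from hp2]; exact hx⟩, hp1⟩
  haveI : ∀ k, Flat (g k) := fun k => inferInstance
  haveI : Coh.IsQCoh ((Scheme.Modules.pullback b).obj (D.obj j)) := isQCoh_pullback b (D.obj j)
  refine (sections_family g ((Scheme.Modules.pullback b).obj (D.obj j)) hV' id Vk hVk
    (fun k => inf_le_left) hcov).1 _ _ fun k => ?_
  refine ((ConcreteCategory.isIso_iff_bijective ((cmpIso (D.obj j) (g k) (f := b) (h := g k ≫ b) rfl).hom.app (Vk k))).1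
    inferInstance).1 ?_
  refine (plMap_eq (D.obj j) (g k) rfl _ _).symm.trans (Eq.trans ?_ (plMap_eq (D.obj j) (g k) rfl _ _))
  have hga : Vk k ≤ (g k ≫ a) ⁻¹ᵁ U := inf_le_left.trans ((g k).preimage_mono (hV'V.trans ha))
  have hgb : Vk k ≤ (g k ≫ b) ⁻¹ᵁ U' := inf_le_left.trans ((g k).preimage_mono (hV'V.trans hb))
  have eg : (g k ≫ b) ≫ f j = (g k ≫ a) ≫ f i := by simp only [Category.assoc, e]
  rw [plMap_θ D (g k) (a ≫ f i) ((g k ≫ a) ≫ f i) (Category.assoc _ _ _).symm a b rfl e (g k ≫ a) (g k ≫ b)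
      rfl rfl rfl eg inf_le_left,
    plMap_pullMap (D.obj i) (g k) rfl (hV'V.trans ha) inf_le_left hga,
    plMap_pullMap (D.obj j) (g k) rfl (hV'V.trans hb) inf_le_left hgb]
  have e1 : q k ≫ f (c.idx k) = (g k ≫ a) ≫ f i := by
    rw [Category.assoc]; exact pullback.condition.symm
  have e2 : q k ≫ f (c.idx k) = (g k ≫ b) ≫ f j := e1.trans eg.symm
  exact (hz k (P k) (g k ≫ a) (q k) e1 (Vk k) hga inf_le_right).trans
    ((hz' k (P k) (g k ≫ b) (q k) e2 (Vk k) hgb inf_le_right).symm)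

end Groth.Agent.FamilyDesc
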